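import Cfsg.Agent.H95.Fi23Three.Defs
import Cfsg.Agent.H16.Fi23HBase
import Cfsg.Agent.H16.CosetBasePow

/-! Kernel checks of the certificate. -/

set_option autoImplicit false
set_option maxRecDepth 20000

namespace Cfsg.Agent.H95.Fi23Three

open Cfsg.Agent.H16 EnumData

local notation "run" => EnumData.run Fi23H.data

/-- letters are generators -/
def lettersOK (w : List Nat) : Bool := w.all fun g => Nat.ble (g + 1) 10

theorem zw_ok : lettersOK zwD = true := by decide +kernel

theorem zw_cube : (allFixed Fi23H.base []).all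
    (fun i => Nat.beq (run (List.replicate 3 zwD).flatten i) i) = true := by decide +kernel

theorem x_facts : xD < 31671 ∧ run zwD xD ≠ xD ∧
    xzD = [xD, run zwD xD, run zwD (run zwD xD)] := by decide +kernel

theorem gen_lt : ∀ g : Fin 10, gPtD.getD g 0 < 31671 := by decide +kernel

theorem mem_facts : memD.all (fun e => Nat.ble (e.2.1 + 1) 10 && lettersOK e.2.2 &&
    Nat.ble (e.1 + 1) 31671 && !Nat.beq e.1 0 &&
    Nat.beq (run e.2.2 (gPtD.getD e.2.1 0)) e.1) = true := by decide +kernel

theorem f_facts : allFrom (fun i => Nat.ble (fN i + 1) 31671 &&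
    (Nat.beq i 0 || Nat.ble (fN (i - 1) + 1) (fN i))) 324 0 = true := by decide +kernel

theorem f_zero : fN 0 = 0 := by decide +kernel

theorem t_range : allFrom (fun i => Nat.ble (t0N i + 1) 324 &&
    allFrom (fun k => Nat.ble (tN k i + 1) 324) 5 0) 324 0 = true := by decide +kernel

theorem t_rows : allFrom (fun k => knownPts.contains (fN (sD.getD k 0)) &&
    Nat.ble (sD.getD k 0 + 1) 324 &&
    allFrom (fun i => Nat.beq (run (mW (fN (sD.getD k 0))) (fN i)) (fN (tN k i)) &&
      Nat.beq (tN k (tN k i)) i) 324 0) 5 0 = true := by decide +kernel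

theorem t0_row : allFrom (fun i => Nat.beq (run (mW 0) (fN i)) (fN (t0N i))) 324 0 = true := by
  decide +kernel

theorem hw_facts : allFrom (fun i => (hwN i).all (fun k => Nat.ble (k + 1) 5) &&
    Nat.beq (runS (hwN i) 0) i) 324 0 = true := by decide +kernel

theorem lab_facts : allFrom (fun i => Nat.ble (labN i + 1) 36 &&
    allFrom (fun k => Nat.beq (labN (tN k i)) (piN k (labN i))) 5 0) 324 0 = true := by decide +kernel

theorem pi_facts : allFrom (fun B => Nat.ble (repN B + 1) 324 && Nat.beq (labN (repN B)) B &&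
    allFrom (fun k => Nat.ble (piN k B + 1) 36 && Nat.beq (piN k (piN k B)) B) 5 0) 36 0 = true := by
  decide +kernel

theorem lab_zero : labN 0 = 0 := by decide +kernel

theorem same_block : allFrom (fun y => !Nat.beq (labN y) 0 ||
    (!adjN 0 y && allFrom (fun f => adjN 0 f == adjN y f) 324 0)) 324 0 = true := by decide +kernel

theorem other_block : allFrom (fun y => Nat.beq (labN y) 0 ||
    sepD.any (fun f => Nat.ble (f + 1) 324 && adjN 0 f && !adjN y f)) 324 0 = true := by decide +kernel

theorem nbr_labels : allFrom (fun f => !adjN 0 f ||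
    (compD.contains (labN f) && !Nat.beq (labN f) 0)) 324 0 = true := by decide +kernel

theorem comp_length : compD.length = 4 ∧ compD.Nodup ∧ 0 ∈ compD := by decide +kernel

theorem clique_facts : cliqueD.length = 4 ∧ cliqueD.Nodup ∧ (∀ a ∈ cliqueD, a < 324) ∧
    (∀ a ∈ cliqueD, ∀ b ∈ cliqueD, a ≠ b → adjN a b = true) := by decide +kernel

/-- a pair usable as an element fixing every block, of order dividing three on indices -/
noncomputable def pairOK (p : Nat × Nat) : Bool :=
  Nat.ble (p.1 + 1) 324 && Nat.ble (p.2 + 1) 324 &&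
    allFrom (fun i => Nat.beq (labN (prodN p i)) (labN i) &&
      Nat.beq (prodN p (prodN p (prodN p i))) i) 324 0

theorem q_ok : allFrom (fun j => pairOK (qD.getD j (0, 0)) &&
    knownPts.contains (fN (qD.getD j (0, 0)).1) && knownPts.contains (fN (qD.getD j (0, 0)).2)) 8 0 =
    true := by decide +kernel

theorem stab_ok : stabD.all (fun p => pairOK p && Nat.beq (prodN p 0) 0) = true := by decide +kernel

theorem stab_moves : allFrom (fun y => Nat.beq (labN y) 0 ||
    stabD.any (fun p => !Nat.beq (prodN p y) y)) 324 0 = true := by decide +kernel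

theorem q_comm : allFrom (fun a => allFrom (fun b => Nat.ble b a || allFrom (fun i =>
    Nat.beq (prodN (qD.getD a (0, 0)) (prodN (qD.getD b (0, 0)) i))
      (prodN (qD.getD b (0, 0)) (prodN (qD.getD a (0, 0)) i))) 324 0) 8 0) 8 0 = true := by
  decide +kernel

/-- iterate -/
def itN (f : Nat → Nat) : Nat → Nat → Nat
  | 0, i => i
  | m + 1, i => f (itN f m i)

theorem base_fix : ∀ L : Fin 4, psD.getD L 0 < 324 := by decide +kernel

theorem base_free : ∀ L : Fin 4, ∀ j : Fin 8, 2 * (L : Nat) + 1 < (j : Nat) →
    prodN (qD.getD j (0, 0)) (psD.getD L 0) = psD.getD L 0 := by decide +kernel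

theorem base_inj : ∀ L : Fin 4, ∀ a b c d : Fin 3,
    itN (prodN (qD.getD (2 * (L : Nat)) (0, 0))) a
      (itN (prodN (qD.getD (2 * (L : Nat) + 1) (0, 0))) b (psD.getD L 0)) =
    itN (prodN (qD.getD (2 * (L : Nat)) (0, 0))) c
      (itN (prodN (qD.getD (2 * (L : Nat) + 1) (0, 0))) d (psD.getD L 0)) → a = c ∧ b = d := by
  decide +kernel

theorem base_trans : ∀ L : Fin 4, allFrom (fun y =>
    !Nat.beq (labN y) (labN (psD.getD L 0)) || (List.range 3).any (fun a => (List.range 3).any
      fun b => Nat.beq (itN (prodN (qD.getD (2 * (L : Nat)) (0, 0))) a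
        (itN (prodN (qD.getD (2 * (L : Nat) + 1) (0, 0))) b (psD.getD L 0))) y)) 324 0 = true := by
  decide +kernel

/-- the five starting pairs -/
def start5 (y : Nat) : List (Nat × Nat) := psD.map (fun p => (p, p)) ++ [(p5D, y)]

theorem five_lt : p5D < 324 ∧ ycD < 324 ∧ psD.length = 4 ∧ ycD ≠ p5D := by decide +kernel

theorem cover_ok : allFrom (fun i => ((coverD.foldl deriveStep (start5 p5D)).map (fun e => e.1)).contains i)
    324 0 = true := by decide +kernel

/-- the last pair of a derivation contradicts an earlier one -/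
noncomputable def failOK (y : Nat) (e : Nat × List (Nat × Nat) × Nat) : Bool :=
  Nat.beq e.1 y && (fun l : List (Nat × Nat) =>
    !(Nat.beq (l.getD (l.length - 1) (0, 0)).1 (l.getD e.2.2 (0, 0)).1 ==
      Nat.beq (l.getD (l.length - 1) (0, 0)).2 (l.getD e.2.2 (0, 0)).2))
    (e.2.1.foldl deriveStep (start5 y))

theorem fail_ok : allFrom (fun y => !Nat.beq (labN y) (labN p5D) || Nat.beq y p5D || Nat.beq y ycD ||
    failD.any (failOK y)) 324 0 = true := by decide +kernel

theorem wit_ok : allFrom (fun y => Nat.beq y 0 || !Nat.beq (labN y) 0 || witD.any (fun e =>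
    Nat.beq e.1 y && Nat.ble (e.2 + 1) 8 && knownPts.contains (fN y) &&
      (fun wq wk => !Nat.beq (run (wq.reverse ++ wk.reverse ++ wq ++ wk) xD) xD)
        (pairW (qD.getD e.2 (0, 0))) (pairW (y, 0)))) 324 0 = true := by decide +kernel

/-- the closure of a pair of blocks is too large -/
noncomputable def blockOK (e : Nat × List (List Nat × Nat × Nat)) : Bool :=
  (fun C : List Nat => C.Nodup &&
    (Nat.ble 10 C.length || (compD.contains e.1 && compD.all (fun B => C.contains B))))
    (e.2.foldl blockStep [0, e.1])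

theorem block_ok : blockD.all (fun e => blockOK e && Nat.ble (e.1 + 1) 36 &&
    e.2.all (fun s => s.1.all fun k => Nat.ble (k + 1) 5)) = true := by decide +kernel

theorem block_all : allFrom (fun B => Nat.beq B 0 || blockD.any (fun e => Nat.beq e.1 B)) 36 0 =
    true := by decide +kernel

theorem filt_ok : (filtD.all fun f => knownPts.contains f && (List.range 324).any fun i =>
    Nat.beq (fN i) f) = true ∧ (filtD.all fun f => Nat.beq (run (mW f) xD) xD) = true := by
  decide +kernel

theorem chain_letters : chainD.all (fun e => e.2.all fun a => knownPts.contains a &&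
    (Nat.beq a xD || (List.range 324).any fun i => Nat.beq (fN i) a)) &&
    chainD.all (fun e => (List.range 324).any fun i => Nat.beq (fN i) e.1) = true := by decide +kernel

theorem chain_ok : ∀ g : Fin 10,
    (chainD.getD g (0, [])).2.foldl (fun y a => run (mW a) y) (chainD.getD g (0, [])).1 =
      gPtD.getD g 0 := by decide +kernel

end Cfsg.Agent.H95.Fi23Three
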