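import Cfsg.Agent.H95.Fi23Three.Data
import Cfsg.Agent.H16.CosetEnum

/-! The functions on the 324 indices of the fixed points used by the certificate. -/

set_option autoImplicit false
set_option maxRecDepth 20000

namespace Cfsg.Agent.H95.Fi23Three

open Cfsg.Agent.H16

/-- the point number of an index -/
noncomputable def fN (i : Nat) : Nat := bitField fD (Nat.mul 15 i) 15

/-- action of an acting member on indices -/
noncomputable def tN (k i : Nat) : Nat := bitField (tD.getD k 0) (Nat.mul 9 i) 9

/-- action of the first member on indices -/
noncomputable def t0N (i : Nat) : Nat := bitField t0D (Nat.mul 9 i) 9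

/-- block label -/
noncomputable def labN (i : Nat) : Nat := bitField labD (Nat.mul 6 i) 6

/-- block representative -/
noncomputable def repN (B : Nat) : Nat := bitField repD (Nat.mul 9 B) 9

/-- action of an acting member on blocks -/
noncomputable def piN (k B : Nat) : Nat := bitField (piD.getD k 0) (Nat.mul 6 B) 6

/-- unpack a path -/
noncomputable def decodeW (fuel : Nat) : Nat → List Nat :=
  Nat.rec (motive := fun _ => Nat → List Nat) (fun _ => [])
    (fun _ ih c => Bool.rec ((Nat.sub (Nat.mod c 8) 1) :: ih (Nat.div c 8)) [] (Nat.beq c 0)) fuel

/-- the path to an index -/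
noncomputable def hwN (i : Nat) : List Nat := decodeW 8 (bitField hwD (Nat.mul 24 i) 24)

/-- follow a path on indices -/
noncomputable def runS (h : List Nat) : Nat → Nat :=
  List.rec (motive := fun _ => Nat → Nat) (fun i => i)
    (fun k _ ih i => forceNat i fun i => ih (tN k i)) h

/-- follow a path on blocks -/
noncomputable def runB (h : List Nat) : Nat → Nat :=
  List.rec (motive := fun _ => Nat → Nat) (fun i => i)
    (fun k _ ih i => forceNat i fun i => ih (piN k i)) h

theorem runS_nil (i : Nat) : runS [] i = i := rfl

theorem runS_cons (k : Nat) (h : List Nat) (i : Nat) : runS (k :: h) i = runS h (tN k i) :=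
  forceNat_eq i fun i => runS h (tN k i)

theorem runB_nil (i : Nat) : runB [] i = i := rfl

theorem runB_cons (k : Nat) (h : List Nat) (i : Nat) : runB (k :: h) i = runB h (piN k i) :=
  forceNat_eq i fun i => runB h (piN k i)

/-- the member of one index moves another -/
noncomputable def resN (a b : Nat) : Nat :=
  forceNat a fun a => forceNat b fun b => runS (hwN a) (t0N (runS (hwN a).reverse b))

theorem resN_eq (a b : Nat) : resN a b = runS (hwN a) (t0N (runS (hwN a).reverse b)) :=
  (forceNat_eq a fun a => forceNat b fun b => runS (hwN a) (t0N (runS (hwN a).reverse b))).trans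
    (forceNat_eq b fun b => runS (hwN a) (t0N (runS (hwN a).reverse b)))

/-- two different indices with commuting members -/
noncomputable def adjN (a b : Nat) : Bool := !Nat.beq a b && Nat.beq (resN a b) b

/-- a product of two members on indices -/
noncomputable def prodN (p : Nat × Nat) (i : Nat) : Nat := resN p.1 (resN p.2 i)

/-- the first member of a word list with the given point -/
def memFind (y : Nat) : List Nat :=
  match memD.find? (fun e => Nat.beq e.1 y) with
  | some (_, g, u) => u.reverse ++ [g] ++ u
  | none => []

/-- the word of the member at a point -/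
def mW (y : Nat) : List Nat :=
  if y = 0 then (List.replicate 9 [7, 6, 5, 4, 3, 2, 1]).flatten else memFind y

/-- the word of the product of two members at indices -/
noncomputable def pairW (p : Nat × Nat) : List Nat := mW (fN p.2) ++ mW (fN p.1)

/-- the points whose words are listed -/
def knownPts : List Nat := 0 :: memD.map (fun e => e.1)

/-- derived pairs of source and image indices -/
noncomputable def deriveStep (acc : List (Nat × Nat)) (s : Nat × Nat) : List (Nat × Nat) :=
  acc ++ [(resN (acc.getD s.1 (0, 0)).1 (acc.getD s.2 (0, 0)).1,
    resN (acc.getD s.1 (0, 0)).2 (acc.getD s.2 (0, 0)).2)]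

/-- one step of closing a set of blocks -/
noncomputable def blockStep (acc : List Nat) (s : List Nat × Nat × Nat) : List Nat :=
  if (acc.contains (runB s.1 (acc.getD s.2.1 0))) then
    acc ++ [runB s.1 (acc.getD s.2.2 0)] else acc

end Cfsg.Agent.H95.Fi23Three
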